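import Groth.Agent.S5758
import Groth.Agent.SymGr.Regular
import Groth.Agent.Depth.CM
import Mathlib.RingTheory.KrullDimension.Basic

/-! The cotangent module of a complete intersection in a regular local ring is free. -/

namespace Groth.Agent.FanoCI.Algebra

universe u

open IsLocalRing MvPolynomial

theorem coeff_mem_of_sum_mem_sq {R : Type u} [CommRing R] [IsRegularLocalRing R] {t : ℕ} (f : Fin t → R)
    (hf : ∀ i, f i ∈ maximalIdeal R)
    (hdim : ringKrullDim (R ⧸ Ideal.span (Set.range f)) + t ≤ ringKrullDim R)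
    {c : Fin t → R} (hc : ∑ i, c i * f i ∈ Ideal.span (Set.range f) ^ 2) (i : Fin t) :
    c i ∈ Ideal.span (Set.range f) := by
  classical
  have hJ : Ideal.ofList (List.ofFn f) = Ideal.span (Set.range f) := by
    rw [Ideal.ofList]
    congr 1
    ext x
    simp [List.mem_ofFn, Set.mem_range]
  have hCM : LocCoh.IsCohenMacaulayModule R R :=
    (Depth.isCohenMacaulayLocalRing_iff (R := R)).1 Depth.isCohenMacaulayLocalRing_of_isRegularLocalRing
  have hmem : ∀ x ∈ List.ofFn f, x ∈ maximalIdeal R := fun x hx => by
    obtain ⟨j, rfl⟩ := (List.mem_ofFn' f x).1 hx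
    exact hf j
  have hn : Submodule.spanFinrank (Ideal.span (Set.range f)) ≤ t := by
    refine (Submodule.spanFinrank_span_le_ncard_of_finite (Set.finite_range f)).trans ?_
    rw [← Set.image_univ]
    exact (Set.ncard_image_le (Set.finite_univ)).trans (by rw [Set.ncard_univ, Nat.card_fin])
  have hJm : Ideal.span (Set.range f) ≤ maximalIdeal R := Ideal.span_le.2 (by rintro _ ⟨j, rfl⟩; exact hf j)
  have hup : ringKrullDim R ≤ ringKrullDim (R ⧸ Ideal.span (Set.range f)) + t :=
    (ringKrullDim_le_ringKrullDim_quotient_add_spanFinrank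
      (Ideal.span (Set.range f)) (hJm.trans (IsLocalRing.ringJacobson_eq_maximalIdeal R).ge)).trans (add_le_add le_rfl (by exact_mod_cast hn))
  have e : Module.supportDim R (R ⧸ (Ideal.ofList (List.ofFn f) • (⊤ : Submodule R R))) =
      ringKrullDim (R ⧸ Ideal.span (Set.range f)) := by
    rw [smul_eq_mul, Ideal.mul_top, hJ]
    exact Module.supportDim_quotient_eq_ringKrullDim _
  have h5 := Groth.Agent.S5758.result R R hCM (List.ofFn f) hmem
  have hw : RingTheory.Sequence.IsWeaklyRegular R (List.ofFn f) := by
    refine h5.1.mpr ?_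
    rw [e, Module.supportDim_self_eq_ringKrullDim, List.length_ofFn]
    exact le_antisymm hdim hup
  have hq := SymGr.Regular.isQuasiRegular_of_isWeaklyRegular hw
  let P : MvPolynomial (Fin t) R := ∑ j, C (c j) * X j
  have hP : P.IsHomogeneous 1 := IsHomogeneous.sum _ _ _ fun j _ => (isHomogeneous_X R j).C_mul _
  have hev : eval f P = ∑ j, c j * f j := by simp [P]
  have h := hq 1 P hP (by rw [hev]; exact hc) (Finsupp.single i 1)
  have hco : coeff (Finsupp.single i 1) P = c i := by
    simp only [P, coeff_sum, coeff_C_mul]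
    rw [Finset.sum_eq_single i]
    · simp
    · intro j _ hj
      simp [coeff_X', Finsupp.single_left_inj (one_ne_zero : (1 : ℕ) ≠ 0), hj]
    · simp
  rwa [hco] at h

end Groth.Agent.FanoCI.Algebra
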