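import Groth.Agent.LefHyp.Ideal
import Groth.Agent.ProjTwist.Quotient
import Groth.Agent.Omega.StalkConormal
import Groth.Agent.Omega.ProdDiff
import Groth.Agent.FanoCI.Algebra
import Groth.Agent.DualAbs.Depth
import Groth.Agent.Props.NormalCM

/-! The conormal sheaf of a complete intersection in projective space. -/

set_option autoImplicit false
set_option linter.style.haveILetI false

universe u

open CategoryTheory CategoryTheory.Limits AlgebraicGeometry TopologicalSpace Opposite

noncomputable section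

namespace Groth.Agent.FanoCI

open Groth.Agent.Omega Groth.Agent.Omega.Stalks
open Groth.Agent.PullStalk.Sky Groth.Agent.PullStalk.Exact Groth.Agent.PullStalk.Basic
open Groth.Agent.SepTang48 (D)

/-- The unit on stalks is natural. -/
theorem stalkLin_pullback_unit {X Y : Scheme.{u}} (g : X ⟶ Y) {M N : Y.Modules} (a : M ⟶ N) (x : X)
    (m : M.presheaf.stalk (g x)) :
    stalkLin ((Scheme.Modules.pullback g).map a) x (unitStalkHom g M x m) =
      unitStalkHom g N x (stalkLin a (g x) m) := by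
  obtain ⟨U, hx, s, rfl⟩ := exists_germM_eq M (g x) m
  refine (congrArg (stalkLin _ x) (unitStalkHom_germ g M x U hx s)).trans ?_
  refine (stalkLin_germ _ (g ⁻¹ᵁ U) x hx _).trans ?_
  refine Eq.trans ?_ (congrArg (unitStalkHom g N x) (stalkLin_germ a U (g x) hx s)).symm
  refine Eq.trans ?_ (unitStalkHom_germ g N x U hx _).symm
  exact congrArg (germM _ (g ⁻¹ᵁ U) x hx)
    congr(Scheme.Modules.Hom.app $((Scheme.Modules.pullbackPushforwardAdjunction g).unit.naturality a) U s).symm

theorem stalkLin_id {X : Scheme.{u}} (M : X.Modules) (x : X) (w : M.presheaf.stalk x) :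
    stalkLin (𝟙 M) x w = w := by
  obtain ⟨U, hx, s, rfl⟩ := exists_germM_eq M x w
  exact stalkLin_germ (𝟙 M) U x hx s

/-- A stalk of a pullback is spanned by the units of a spanning set. -/
theorem span_unitStalk {X Y : Scheme.{u}} (g : X ⟶ Y) (M : Y.Modules) (x : X)
    {m₀ : M.presheaf.stalk (g x)} (h : ∀ m, ∃ c : Y.presheaf.stalk (g x), m = c • m₀)
    (w : ((Scheme.Modules.pullback g).obj M).presheaf.stalk x) :
    w ∈ Submodule.span (X.presheaf.stalk x) {unitStalkHom g M x m₀} := by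
  rw [← Submodule.Quotient.mk_eq_zero]
  refine LinearMap.congr_fun (hom_eq_of_unitStalk g (Submodule.mkQ _) 0 fun m => ?_) w
  obtain ⟨c, rfl⟩ := h m
  rw [unitStalkHom_smul, LinearMap.zero_apply, Submodule.mkQ_apply, Submodule.Quotient.mk_eq_zero]
  exact Submodule.smul_mem _ _ (Submodule.mem_span_singleton_self _)

variable {k : Type u} [Field k] {n t : ℕ} {φ : Fin t → ℕ} (f : ∀ i : Fin t, LefPen.Form n k (φ i))


theorem ker_ι_ideal (j : Fin (n + 1)) (V : (CohB1.ProjSpace n k).affineOpens) (h : V.1 ≤ D k n j) :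
    (Scheme.Hom.ker (LefPen.ciIdeal f).subschemeι).ideal V = Ideal.span (Set.range fun i => QCoh.rres h (LefPen.dehom (f i) j)) := by
  rw [Scheme.IdealSheafData.ker_subschemeι, LefPen.ciIdeal, Scheme.IdealSheafData.ideal_iSup, iSup_apply,
    Ideal.span, Submodule.span_range_eq_iSup]
  exact iSup_congr fun i => LefHyp.hypIdeal_ideal_of_le (f i) j V h

theorem app_dehom (i : Fin t) (j : Fin (n + 1)) :
    Scheme.Hom.app (LefPen.ciIdeal f).subschemeι (D k n j) (LefPen.dehom (f i) j) = 0 := by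
  have : LefPen.dehom (f i) j ∈ (Scheme.Hom.ker (LefPen.ciIdeal f).subschemeι).ideal ⟨_, SepTang48.isAffineOpen_D k n j⟩ := by
    rw [ker_ι_ideal f j _ le_rfl]
    exact Ideal.subset_span ⟨i, congr($(CategoryTheory.Functor.map_id (CohB1.ProjSpace n k).presheaf _) (LefPen.dehom (f i) j))⟩
  rwa [Scheme.Hom.ker_apply, RingHom.mem_ker] at this

/-- `f i / T_j ^ φ i` as a section of the ideal. -/
def sig (i : Fin t) (j : Fin (n + 1)) : Γ(ClSub.idealMod (Scheme.Hom.ker (LefPen.ciIdeal f).subschemeι), D k n j) :=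
  (exists_idealSect_eq (LefPen.ciIdeal f).subschemeι _ _ (app_dehom f i j)).choose

theorem idealSect_sig (i : Fin t) (j : Fin (n + 1)) :
    OmegaSh.idealSect (Scheme.Hom.ker (LefPen.ciIdeal f).subschemeι) _ (sig f i j) = LefPen.dehom (f i) j :=
  (exists_idealSect_eq (LefPen.ciIdeal f).subschemeι _ _ (app_dehom f i j)).choose_spec

/-- The data of `O(-φ i) ⟶ I`. -/
def dat (i : Fin t) : ProjTwist.TwistData (fun j : Fin (n + 1) => (MvPolynomial.X j : MvPolynomial (Fin (n + 1)) k))
    (fun j => ProjTwist.X_mem_polyGrading n k j) (ClSub.idealMod (Scheme.Hom.ker (LefPen.ciIdeal f).subschemeι)) (φ i) where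
  σ := sig f i
  compat a b := by
    refine idealSect_injective _ _ ?_
    rw [idealSect_smul]
    refine (idealSect_map _ _ _).trans (Eq.trans ?_ (congrArg (_ * ·) (idealSect_map _ _ _).symm))
    erw [idealSect_sig, idealSect_sig]
    refine (LefHyp.rres_dehom (f i) b a _ inf_le_right inf_le_left).trans ?_
    rfl

/-- `O(-m)`. -/
abbrev tw (m : ℕ) : (CohB1.ProjSpace n k).Modules :=
  Twist.twist (CohB1.polyGrading n k) (-((m • 1 : ℕ) : ℤ))

/-- `O(-φ i) ⟶ I`. -/
def hom (i : Fin t) : tw (n := n) (k := k) (φ i) ⟶ ClSub.idealMod (Scheme.Hom.ker (LefPen.ciIdeal f).subschemeι) :=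
  (dat f i).hom (ProjTwist.iSup_stdOpen n k)

theorem D_le_pow (j : Fin (n + 1)) (m : ℕ) :
    D k n j ≤ Proj.basicOpen (CohB1.polyGrading n k) (MvPolynomial.X j ^ m) := LefHyp.D_le_pow j m

/-- The frame `1 / T_j ^ m` of `O(-m)`. -/
def den (j : Fin (n + 1)) (m : ℕ) : Γ(tw (n := n) (k := k) m, D k n j) :=
  ProjTwist.denSec (SetLike.pow_mem_graded m (ProjTwist.X_mem_polyGrading n k j)) (D_le_pow j m)

theorem hom_den (i : Fin t) (j : Fin (n + 1)) :
    Scheme.Modules.Hom.app (hom f i) _ (den j (φ i)) = sig f i j :=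
  (dat f i).hom_app_denSec (ProjTwist.iSup_stdOpen n k) j (D_le_pow j (φ i))

theorem loc_cancel {R : Type u} [CommRing R] {M : Submonoid R} (t : Localization M) (a : R) (h : a ∈ M) :
    t * algebraMap R (Localization M) a * Localization.mk 1 ⟨a, h⟩ = t := by
  rw [mul_assoc, ← Localization.mk_one_eq_algebraMap, Localization.mk_mul]
  refine (congrArg (t * ·) ?_).trans (mul_one t)
  rw [← Localization.mk_one, Localization.mk_eq_mk_iff, Localization.r_iff_exists]
  exact ⟨1, by simp⟩

set_option maxHeartbeats 800000 in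
theorem stalk_tw (m : ℕ) (j : Fin (n + 1)) {x : CohB1.ProjSpace n k} (hx : x ∈ D k n j)
    (w : (tw (n := n) (k := k) m).presheaf.stalk x) :
    ∃ c : (CohB1.ProjSpace n k).presheaf.stalk x, w = c • germM (tw m) _ x hx (den j m) := by
  obtain ⟨U, hxU, s, rfl⟩ := exists_germM_eq (tw (n := n) (k := k) m) x w
  let V := U ⊓ D k n j
  have hxV : x ∈ V := ⟨hxU, hx⟩
  let hm := SetLike.pow_mem_graded m (ProjTwist.X_mem_polyGrading n k j)
  let s' : Twist.sectN (𝒜 := CohB1.polyGrading n k) (-((m • 1 : ℕ) : ℤ)) (op V) :=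
    Twist.resN _ (homOfLE (inf_le_left : V ≤ U)).op s
  refine ⟨(CohB1.ProjSpace n k).presheaf.germ V x hxV (ProjTwist.mulFun s' hm), ?_⟩
  have e : s' = (show Γ(CohB1.ProjSpace n k, V) from ProjTwist.mulFun s' hm) •
      (QCoh.res (tw (n := n) (k := k) m) (inf_le_right : V ≤ D k n j) (den j m)) := by
    refine Subtype.ext (funext fun y => Subtype.ext ?_)
    refine Eq.trans ?_ (ProjTwist.smul_coe _ _ y).symm
    change _ = ProjTwist.valAt (ProjTwist.mulFun s' hm) y.1 y.2 * Localization.mk 1 _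
    have hv := ProjTwist.valAt_mulFun (N := m • 1) s' hm y.1 y.2
    rw [hv]
    exact (loc_cancel _ _ _).symm
  have e' := congrArg (germM (tw m) V x hxV) e
  refine ((tw m).presheaf.germ_res_apply (homOfLE inf_le_left) x hxV s).symm.trans (e'.trans ?_)
  refine (germM_smul (tw m) V x hxV _ _).trans ?_
  exact congrArg (_ • ·) ((tw m).presheaf.germ_res_apply (homOfLE inf_le_right) x hxV (den j m))

theorem idealStalk_mem_span (j : Fin (n + 1)) (x : CohB1.ProjSpace n k) (hx : x ∈ D k n j)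
    (w : (ClSub.idealMod (Scheme.Hom.ker (LefPen.ciIdeal f).subschemeι)).presheaf.stalk x) :
    idealStalk _ x w ∈ Ideal.span (Set.range fun i =>
      (CohB1.ProjSpace n k).presheaf.germ (D k n j) x hx (LefPen.dehom (f i) j)) := by
  obtain ⟨U, hxU, s, rfl⟩ := exists_germM_eq _ x w
  obtain ⟨V, hV, hxV, hVle⟩ := exists_isAffineOpen_mem_and_subset (U := U ⊓ D k n j) (x := x) ⟨hxU, hx⟩
  have hVU : V ≤ U := hVle.trans inf_le_left
  have hVD : V ≤ D k n j := hVle.trans inf_le_right
  rw [show germM (ClSub.idealMod (Scheme.Hom.ker (LefPen.ciIdeal f).subschemeι)) U x hxU s =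
    germM _ V x hxV (QCoh.res _ hVU s) from ((ClSub.idealMod _).presheaf.germ_res_apply _ _ _ s).symm,
    idealStalk_germ]
  have hmem : OmegaSh.idealSect (Scheme.Hom.ker (LefPen.ciIdeal f).subschemeι) V (QCoh.res _ hVU s) ∈
      (Scheme.Hom.ker (LefPen.ciIdeal f).subschemeι).ideal ⟨V, hV⟩ := by
    rw [Scheme.Hom.ker_apply, RingHom.mem_ker]
    exact app_idealSect (LefPen.ciIdeal f).subschemeι V _
  rw [ker_ι_ideal f j _ hVD] at hmem
  have := Ideal.mem_map_of_mem ((CohB1.ProjSpace n k).presheaf.germ V x hxV).hom hmem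
  rw [Ideal.map_span, ← Set.range_comp] at this
  refine Ideal.span_mono ?_ this
  rintro _ ⟨i, rfl⟩
  exact ⟨i, ((CohB1.ProjSpace n k).presheaf.germ_res_apply _ _ hxV _).symm⟩

/-- The map `⊕ O_Y(-φ i) ⟶ I / I²`. -/
def psi : (∐ fun i : Fin t => (Scheme.Modules.pullback (LefPen.ciIdeal f).subschemeι).obj (tw (φ i))) ⟶
    (Scheme.Modules.pullback (LefPen.ciIdeal f).subschemeι).obj
      (ClSub.idealMod (Scheme.Hom.ker (LefPen.ciIdeal f).subschemeι)) :=
  Sigma.desc fun i => (Scheme.Modules.pullback (LefPen.ciIdeal f).subschemeι).map (hom f i)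

/-- The projections of the finite coproduct. -/
def proj (i : Fin t) : (∐ fun i : Fin t => (Scheme.Modules.pullback (LefPen.ciIdeal f).subschemeι).obj (tw (φ i))) ⟶
    (Scheme.Modules.pullback (LefPen.ciIdeal f).subschemeι).obj (tw (φ i)) :=
  Sigma.desc fun l => if h : l = i then eqToHom (by rw [h]) else 0

theorem total : ∑ i, proj f i ≫ Sigma.ι (fun i : Fin t => (Scheme.Modules.pullback (LefPen.ciIdeal f).subschemeι).obj (tw (φ i))) i =
    𝟙 (∐ fun i : Fin t => (Scheme.Modules.pullback (LefPen.ciIdeal f).subschemeι).obj (tw (φ i))) := by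
  refine Sigma.hom_ext _ _ fun l => ?_
  rw [Preadditive.comp_sum, Category.comp_id, Finset.sum_eq_single l]
  · simp [proj]
  · intro i _ hi
    simp [proj, hi.symm]
  · simp

theorem stalkLin_sum {X : Scheme.{u}} {M N : X.Modules} {β : Type*} (s : Finset β) (a : β → (M ⟶ N)) (x : X)
    (m : M.presheaf.stalk x) : stalkLin (∑ i ∈ s, a i) x m = ∑ i ∈ s, stalkLin (a i) x m := by
  classical
  induction s using Finset.induction with
  | empty => rw [Finset.sum_empty, Finset.sum_empty]; exact stalkLin_zero x m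
  | insert i s hi ih => rw [Finset.sum_insert hi, Finset.sum_insert hi, ProdDiff.stalkLin_add, ih]

section Stalk

variable (z : (LefPen.ciIdeal f).subscheme) {j : Fin (n + 1)} (hz : (LefPen.ciIdeal f).subschemeι z ∈ D k n j)

/-- The generators of the stalk of `⊕ O_Y(-φ i)`. -/
def gen (i : Fin t) : (∐ fun i : Fin t => (Scheme.Modules.pullback (LefPen.ciIdeal f).subschemeι).obj (tw (φ i))).presheaf.stalk z :=
  stalkLin (Sigma.ι (fun i : Fin t => (Scheme.Modules.pullback (LefPen.ciIdeal f).subschemeι).obj (tw (φ i))) i) z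
    (unitStalkHom (LefPen.ciIdeal f).subschemeι (tw (φ i)) z (germM (tw (φ i)) _ ((LefPen.ciIdeal f).subschemeι z) hz (den j (φ i))))

theorem exists_gen_sum (w : (∐ fun i : Fin t => (Scheme.Modules.pullback (LefPen.ciIdeal f).subschemeι).obj (tw (φ i))).presheaf.stalk z) :
    ∃ c : Fin t → (LefPen.ciIdeal f).subscheme.presheaf.stalk z, w = ∑ i, c i • gen f z hz i := by
  have h1 : ∀ i, ∃ c : (LefPen.ciIdeal f).subscheme.presheaf.stalk z,
      stalkLin (proj f i) z w = c • unitStalkHom (LefPen.ciIdeal f).subschemeι (tw (φ i)) z (germM (tw (φ i)) _ ((LefPen.ciIdeal f).subschemeι z) hz (den j (φ i))) :=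
    fun i => (Submodule.mem_span_singleton.1
      (span_unitStalk (LefPen.ciIdeal f).subschemeι (tw (φ i)) z (stalk_tw (φ i) j hz) (stalkLin (proj f i) z w))).imp fun _ h => h.symm
  choose c hc using h1
  refine ⟨c, ?_⟩
  conv_lhs => rw [← stalkLin_id _ z w, ← total f, stalkLin_sum]
  refine Finset.sum_congr rfl fun i _ => ?_
  rw [stalkLin_comp, hc, map_smul]
  rfl

theorem stalkLin_psi_gen (i : Fin t) :
    stalkLin (psi f) z (gen f z hz i) =
      unitStalkHom (LefPen.ciIdeal f).subschemeι (ClSub.idealMod (Scheme.Hom.ker (LefPen.ciIdeal f).subschemeι)) z (germM _ _ ((LefPen.ciIdeal f).subschemeι z) hz (sig f i j)) := by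
  rw [gen, ← stalkLin_comp, psi, Sigma.ι_desc, stalkLin_pullback_unit]
  refine congrArg _ ((stalkLin_germ (hom f i) (D k n j) _ hz _).trans ?_)
  rw [hom_den]

/-- The local equations. -/
def loc (i : Fin t) : (CohB1.ProjSpace n k).presheaf.stalk ((LefPen.ciIdeal f).subschemeι z) :=
  (CohB1.ProjSpace n k).presheaf.germ (D k n j) ((LefPen.ciIdeal f).subschemeι z) hz (LefPen.dehom (f i) j)

theorem loc_mem (i : Fin t) : loc f z hz i ∈ RingHom.ker (Scheme.Hom.stalkMap (LefPen.ciIdeal f).subschemeι z).hom := by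
  refine (range_idealStalk (LefPen.ciIdeal f).subschemeι (Scheme.Hom.isEmbedding (LefPen.ciIdeal f).subschemeι).isInducing z).le
    ⟨germM _ _ ((LefPen.ciIdeal f).subschemeι z) hz (sig f i j), ?_⟩
  rw [idealStalk_germ, idealSect_sig]
  rfl

include hz in
theorem ker_stalkMap : RingHom.ker (Scheme.Hom.stalkMap (LefPen.ciIdeal f).subschemeι z).hom = Ideal.span (Set.range (loc f z hz)) := by
  refine le_antisymm (fun a ha => ?_) (Ideal.span_le.2 (by rintro _ ⟨i, rfl⟩; exact loc_mem f z hz i))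
  obtain ⟨w, rfl⟩ := (range_idealStalk (LefPen.ciIdeal f).subschemeι (Scheme.Hom.isEmbedding (LefPen.ciIdeal f).subschemeι).isInducing z).ge ha
  exact idealStalk_mem_span f j ((LefPen.ciIdeal f).subschemeι z) hz w

include hz in
theorem surjective : Function.Surjective (stalkLin (psi f) z) := by
  let M := LinearMap.range (stalkLin (psi f) z)
  suffices h : M.mkQ = 0 from fun w =>
    LinearMap.mem_range.1 ((Submodule.Quotient.mk_eq_zero M).1 (LinearMap.congr_fun h w))
  refine hom_eq_of_unitStalk (LefPen.ciIdeal f).subschemeι (M := ClSub.idealMod (Scheme.Hom.ker (LefPen.ciIdeal f).subschemeι)) _ _ fun w => ?_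
  have hw : idealStalk _ ((LefPen.ciIdeal f).subschemeι z) w ∈ RingHom.ker (Scheme.Hom.stalkMap (LefPen.ciIdeal f).subschemeι z).hom :=
    (range_idealStalk (LefPen.ciIdeal f).subschemeι (Scheme.Hom.isEmbedding (LefPen.ciIdeal f).subschemeι).isInducing z).le (Set.mem_range_self w)
  rw [ker_stalkMap f z hz] at hw
  obtain ⟨c, hc⟩ := (Ideal.mem_span_range_iff_exists_fun).1 hw
  have : w = ∑ i, c i • germM _ _ ((LefPen.ciIdeal f).subschemeι z) hz (sig f i j) := by
    refine idealStalk_injective _ _ (hc.symm.trans ?_)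
    rw [map_sum]
    refine Finset.sum_congr rfl fun i _ => ?_
    rw [map_smul, idealStalk_germ, idealSect_sig]
    rfl
  rw [this, map_sum, LinearMap.zero_apply, Submodule.mkQ_apply, Submodule.Quotient.mk_eq_zero]
  refine Submodule.sum_mem M fun i _ => ?_
  rw [unitStalkHom_smul]
  exact M.smul_mem _ ⟨gen f z hz i, stalkLin_psi_gen f z hz i⟩

include hz in
theorem injective [IsRegularLocalRing ((CohB1.ProjSpace n k).presheaf.stalk ((LefPen.ciIdeal f).subschemeι z))]
    (hdim : ringKrullDim ((LefPen.ciIdeal f).subscheme.presheaf.stalk z) + t ≤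
      ringKrullDim ((CohB1.ProjSpace n k).presheaf.stalk ((LefPen.ciIdeal f).subschemeι z))) :
    Function.Injective (stalkLin (psi f) z) := by
  let σ := (Scheme.Hom.stalkMap (LefPen.ciIdeal f).subschemeι z).hom
  have hσ : Function.Surjective σ := Scheme.Hom.stalkMap_surjective (LefPen.ciIdeal f).subschemeι z
  let J : Ideal ((CohB1.ProjSpace n k).presheaf.stalk ((LefPen.ciIdeal f).subschemeι z)) := RingHom.ker σ
  let eZ : _ ⧸ J ≃+* (LefPen.ciIdeal f).subscheme.presheaf.stalk z := RingHom.quotientKerEquivOfSurjective hσ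
  letI : Module ((LefPen.ciIdeal f).subscheme.presheaf.stalk z) J.Cotangent :=
    Module.compHom J.Cotangent eZ.symm.toRingHom
  have hsmul : ∀ b (q : J.Cotangent), σ b • q = b • q := fun b q => by
    change eZ.symm (σ b) • q = b • q
    rw [show eZ.symm (σ b) = Ideal.Quotient.mk J b from eZ.symm_apply_eq.2 rfl]
    rfl
  obtain ⟨κ, hκ, hκgerm, huniv⟩ := StalkConormal.exists_conormal (LefPen.ciIdeal f).subschemeι z (Scheme.Hom.isEmbedding (LefPen.ciIdeal f).subschemeι).isInducing
  obtain ⟨l, hl, -⟩ := huniv J.Cotangent J.toCotangent.toAddMonoidHom fun b a =>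
    (map_smul J.toCotangent b a).trans (hsmul b _).symm
  refine (injective_iff_map_eq_zero _).2 fun w hw => ?_
  obtain ⟨c, rfl⟩ := exists_gen_sum f z hz w
  choose b hb using fun i => hσ (c i)
  have key : ∀ i, l (stalkLin (psi f) z (gen f z hz i)) = J.toCotangent ⟨loc f z hz i, loc_mem f z hz i⟩ := by
    intro i
    have h1 := hκgerm (D k n j) hz (sig f i j) (by rw [idealSect_sig]; exact loc_mem f z hz i)
    refine (congrArg l ?_).trans (hl ⟨loc f z hz i, loc_mem f z hz i⟩)
    rw [stalkLin_psi_gen, unitStalkHom_germ]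
    refine h1.symm.trans (congrArg κ (Subtype.ext ?_))
    exact congrArg ((CohB1.ProjSpace n k).presheaf.germ (D k n j) ((LefPen.ciIdeal f).subschemeι z) hz) (idealSect_sig f i j)
  let l' : ((Scheme.Modules.pullback (LefPen.ciIdeal f).subschemeι).obj
      (ClSub.idealMod (Scheme.Hom.ker (LefPen.ciIdeal f).subschemeι))).presheaf.stalk z →ₗ[
        (LefPen.ciIdeal f).subscheme.presheaf.stalk z] J.Cotangent := l
  have h0 : ∑ i, c i • J.toCotangent ⟨loc f z hz i, loc_mem f z hz i⟩ = 0 := by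
    have h := congrArg l' hw
    rw [map_zero, map_sum, map_sum] at h
    refine Eq.trans (Finset.sum_congr rfl fun i _ => ?_) h
    rw [map_smul, map_smul]
    exact congrArg (c i • ·) (key i).symm
  have h1 : J.toCotangent (∑ i, b i • ⟨loc f z hz i, loc_mem f z hz i⟩) = 0 := by
    rw [map_sum]
    refine Eq.trans (Finset.sum_congr rfl fun i _ => ?_) h0
    rw [map_smul, ← hb i]
    exact (hsmul _ _).symm
  rw [Ideal.toCotangent_eq_zero] at h1
  simp only [Submodule.coe_sum, Submodule.coe_smul, smul_eq_mul] at h1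
  have hJ : J = Ideal.span (Set.range (loc f z hz)) := ker_stalkMap f z hz
  rw [hJ] at h1
  have hb0 := fun i => Algebra.coeff_mem_of_sum_mem_sq (loc f z hz)
    (fun i => IsLocalRing.le_maximalIdeal (RingHom.ker_ne_top σ) (loc_mem f z hz i))
    (by rw [← hJ, ringKrullDim_eq_of_ringEquiv eZ]; exact hdim) h1 i
  refine Finset.sum_eq_zero fun i _ => ?_
  rw [← hb i, RingHom.mem_ker.1 (show b i ∈ RingHom.ker σ by rw [show RingHom.ker σ = _ from hJ]; exact hb0 i),
    zero_smul]

end Stalk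

theorem isIso_psi (htn : t ≤ n) (hY : topologicalKrullDim ↥(LefPen.ciIdeal f).subscheme = (n - t : ℕ)) :
    IsIso (psi f) := by
  have hD : ∀ z : (LefPen.ciIdeal f).subscheme, ∃ j, (LefPen.ciIdeal f).subschemeι z ∈ D k n j := fun z =>
    Opens.mem_iSup.1 ((ProjTwist.iSup_stdOpen n k).ge (Opens.mem_top ((LefPen.ciIdeal f).subschemeι z)))
  haveI : LocallyOfFiniteType (CohB1.ProjSpace.toSpec n k) := ProjTwist.Pn.locallyOfFiniteType_toSpec n k
  haveI : JacobsonSpace (LefPen.ciIdeal f).subscheme :=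
    LocallyOfFiniteType.jacobsonSpace ((LefPen.ciIdeal f).subschemeι ≫ CohB1.ProjSpace.toSpec n k)
  have hcl : ∀ z : (LefPen.ciIdeal f).subscheme, IsClosed ({z} : Set (LefPen.ciIdeal f).subscheme) →
      Function.Injective (stalkLin (psi f) z) := fun z hc => by
    obtain ⟨j, hj⟩ := hD z
    haveI := DualAbs.isRegularLocalRing_stalk (N := n) (k := k) ((LefPen.ciIdeal f).subschemeι z)
    refine injective f z hj ?_
    rw [DualAbs.ringKrullDim_stalk_closed (by
      simpa using (Scheme.Hom.isClosedEmbedding (LefPen.ciIdeal f).subschemeι).isClosedMap _ hc)]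
    refine (add_le_add ((Props.NormalCM.ringKrullDim_stalk_le _ z).trans hY.le) le_rfl).trans ?_
    rw [← Nat.cast_add, Nat.sub_add_cancel htn]
  refine isIso_of_stalk fun z => ⟨?_, by obtain ⟨j, hj⟩ := hD z; exact surjective f z hj⟩
  refine (injective_iff_map_eq_zero _).2 fun w hw => ?_
  obtain ⟨U, hz, s, rfl⟩ := exists_germM_eq _ z w
  rw [stalkLin_germ] at hw
  obtain ⟨V, hzV, iV, iV', e⟩ := TopCat.Presheaf.germ_eq _ z hz hz
    (Scheme.Modules.Hom.app (psi f) U s) 0 (hw.trans (map_zero _).symm)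
  by_contra hne
  let S : Set (LefPen.ciIdeal f).subscheme := {y | ∃ hy : y ∈ V, germM _ V y hy (QCoh.res _ iV.le s) ≠ 0}
  have hS : IsLocallyClosed S := by
    refine ⟨(V : Set _), {y | ∀ hy : y ∈ V, germM _ V y hy (QCoh.res _ iV.le s) ≠ 0}, V.isOpen, ?_, ?_⟩
    · rw [← isOpen_compl_iff, isOpen_iff_forall_mem_open]
      intro y hy
      simp only [Set.mem_compl_iff, Set.mem_ofPred_eq, not_forall, not_not] at hy
      obtain ⟨hyV, hy⟩ := hy
      obtain ⟨W, hyW, iW, iW', eW⟩ := TopCat.Presheaf.germ_eq _ y hyV hyV (QCoh.res _ iV.le s) 0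
        (hy.trans (map_zero _).symm)
      refine ⟨(W : Set _), fun y' hy' h => h (iW.le hy') ?_, W.isOpen, hyW⟩
      refine (TopCat.Presheaf.germ_res_apply _ iW y' hy' _).symm.trans ?_
      exact (congrArg _ (eW.trans (map_zero _))).trans (map_zero _)
    · ext y
      exact ⟨fun ⟨hy, h⟩ => ⟨hy, fun _ => h⟩, fun ⟨hy, h⟩ => ⟨hy, h hy⟩⟩
  have hzS : z ∈ S := ⟨hzV, fun h => hne ((TopCat.Presheaf.germ_res_apply _ iV z hzV s).symm.trans h)⟩
  obtain ⟨y, ⟨hy, hne'⟩, hyc⟩ := nonempty_inter_closedPoints (Z := S) ⟨z, hzS⟩ hS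
  refine hne' (hcl y hyc ?_)
  rw [stalkLin_germ, map_zero]
  refine Eq.trans (congrArg _ ?_) (map_zero _)
  exact (congr($((Scheme.Modules.Hom.mapPresheaf (psi f)).naturality iV.op) s)).trans (e.trans (map_zero _))

end Groth.Agent.FanoCI

end
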