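import Groth.Agent.FanoCI.Conormal
import Groth.Agent.FanoCI.Pair
import Groth.Agent.ProjTwist.Pn.Linear
import Groth.Agent.Omega.Stalks

/-! The ideal of a plane and a quadric meeting in a line: resolution and cohomology. -/

set_option autoImplicit false
set_option linter.style.haveILetI false

universe u

open CategoryTheory CategoryTheory.Limits AlgebraicGeometry TopologicalSpace Opposite MvPolynomial

noncomputable section

namespace Groth.Agent.FanoCI

open Groth.Agent.Omega.Stalks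
open Groth.Agent.PullStalk.Sky Groth.Agent.PullStalk.Exact
open Groth.Agent.SepTang48 (D)

section Gen

variable {R A : Type u} [CommRing R] [CommRing A] [Algebra R A] {𝒢 : ℕ → Submodule R A} [GradedAlgebra 𝒢]

theorem fracFun_self {U : (Proj 𝒢).Opens} {e : ℕ} {a : A} (ha : a ∈ 𝒢 e) (h : U ≤ Proj.basicOpen 𝒢 a) :
    ProjTwist.fracFun ha ha h = 1 := ProjTwist.valAt_ext fun y hy => by
  rw [ProjTwist.valAt_fracFun, ProjTwist.valAt_one]
  exact Localization.mk_self_mk a _

theorem mulFun_zero {U : (Proj 𝒢).Opens} {e : ℕ} {a : A} (ha : a ∈ 𝒢 e) :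
    ProjTwist.mulFun (0 : Twist.sectN (𝒜 := 𝒢) (-(e : ℤ)) (op U)) ha = 0 := by
  have := ProjTwist.mulFun_add (0 : Twist.sectN (𝒜 := 𝒢) (-(e : ℤ)) (op U)) 0 ha
  rw [add_zero] at this
  exact left_eq_add.1 this

end Gen

variable {k : Type u} [Field k] {n : ℕ}


/-- The product of two forms. -/
def mulF {a b : ℕ} (F : LefPen.Form n k a) (G : LefPen.Form n k b) : LefPen.Form n k (a + b) :=
  ⟨F.1 * G.1, SetLike.mul_mem_graded F.2 G.2⟩

section Germ

variable (j : Fin (n + 1)) (x : CohB1.ProjSpace n k) (hx : x ∈ D k n j)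

theorem germF_mulF {a b : ℕ} (F : LefPen.Form n k a) (G : LefPen.Form n k b) :
    germF (mulF F G) j x hx = germF F j x hx * germF G j x hx :=
  valSt_injective x (by
    rw [map_mul, valSt_germF, valSt_germF, valSt_germF, Localization.mk_mul,
      Localization.mk_eq_mk_iff, Localization.r_iff_exists]
    exact ⟨1, by simp [mulF, pow_add]⟩)

theorem germF_add {a : ℕ} (F G : LefPen.Form n k a) :
    germF (F + G) j x hx = germF F j x hx + germF G j x hx := by
  rw [germF, LefHyp.dehom_add, map_add]; rfl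

theorem germF_neg {a : ℕ} (F : LefPen.Form n k a) : germF (-F) j x hx = -germF F j x hx := by
  have h0 : germF (0 : LefPen.Form n k a) j x hx = 0 := by
    have := germF_add j x hx (0 : LefPen.Form n k a) 0
    rwa [add_zero, left_eq_add] at this
  rw [eq_neg_iff_add_eq_zero, ← germF_add, neg_add_cancel, h0]

theorem germF_ne_zero {a : ℕ} (F : LefPen.Form n k a) (hF : F.1 ≠ 0) : germF F j x hx ≠ 0 := by
  intro h
  have := congrArg (valSt x) h
  rw [valSt_germF, map_zero, Localization.mk_eq_mk', IsLocalization.mk'_eq_zero_iff] at this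
  obtain ⟨⟨s, hs⟩, hs'⟩ := this
  exact hF ((mul_eq_zero.1 hs').resolve_left fun h0 => hs (by rw [show s = 0 from h0]; exact Ideal.zero_mem _))

theorem isDomain_stalk : IsDomain ((CohB1.ProjSpace n k).presheaf.stalk x) :=
  Function.Injective.isDomain (valSt x) (valSt_injective x)

/-- The frame of `O(-m)` at `x`. -/
def frame (m : ℕ) : (tw (n := n) (k := k) m).presheaf.stalk x := germM (tw m) _ x hx (den j m)

theorem frame_free (m : ℕ) {c : (CohB1.ProjSpace n k).presheaf.stalk x} (h : c • frame j x hx m = 0) : c = 0 := by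
  obtain ⟨U, hxU, s, rfl⟩ := (CohB1.ProjSpace n k).presheaf.exists_germ_eq (x := x) c
  let V := U ⊓ D k n j
  have hxV : x ∈ V := ⟨hxU, hx⟩
  let s' : Γ(CohB1.ProjSpace n k, V) := QCoh.rres inf_le_left s
  let d' : Γ(tw (n := n) (k := k) m, V) := QCoh.res _ inf_le_right (den j m)
  have h' : germM (tw m) V x hxV (s' • d') = 0 := by
    refine (germM_smul (tw m) V x hxV s' d').trans (Eq.trans ?_ h)
    exact congr_arg₂ (· • ·) ((CohB1.ProjSpace n k).presheaf.germ_res_apply _ x hxV s)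
      ((tw m).presheaf.germ_res_apply _ x hxV (den j m))
  obtain ⟨W, hxW, iW, iW', e⟩ := (tw (n := n) (k := k) m).presheaf.germ_eq x hxV hxV (s' • d') 0
    (h'.trans (map_zero _).symm)
  let hm := SetLike.pow_mem_graded m (ProjTwist.X_mem_polyGrading n k j)
  have hWD : W ≤ Proj.basicOpen (CohB1.polyGrading n k) (X j ^ m) := iW.le.trans (inf_le_right.trans (D_le_pow j m))
  let dW : Γ(tw (n := n) (k := k) m, W) := ProjTwist.denSec hm hWD
  have e2 : (QCoh.rres iW.le s') • dW = 0 := by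
    refine Eq.trans ?_ (e.trans (map_zero _))
    exact (QCoh.res_smul (tw m) iW.le s' d').symm
  have h1 : ProjTwist.fracFun hm hm hWD = 1 := fracFun_self hm hWD
  let r : Γ(Proj (CohB1.polyGrading n k), W) := QCoh.rres iW.le s'
  have e3 : r * ProjTwist.fracFun hm hm hWD = 0 := by
    rw [← ProjTwist.mulFun_denSec hm hm hWD]
    refine (ProjTwist.mulFun_smul r (ProjTwist.denSec hm hWD) hm).symm.trans ?_
    exact (congrArg (fun t : Γ(tw (n := n) (k := k) m, W) => ProjTwist.mulFun (N := m • 1) t hm) e2).trans (mulFun_zero hm)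
  rw [h1, mul_one] at e3
  rw [← (CohB1.ProjSpace n k).presheaf.germ_res_apply (iW ≫ homOfLE inf_le_left) x hxW s]
  refine Eq.trans (congrArg _ ?_) (map_zero _)
  exact (QCoh.rres_rres _ iW.le s).symm.trans e3

theorem exists_frame_sum {β : Type} [Fintype β] (m : ℕ)
    (w : (∐ fun _ : β => tw (n := n) (k := k) m).presheaf.stalk x) :
    ∃ c : β → (CohB1.ProjSpace n k).presheaf.stalk x,
      w = ∑ i, c i • stalkLin (Sigma.ι (fun _ : β => tw (n := n) (k := k) m) i) x (frame j x hx m) := by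
  classical
  let π : β → ((∐ fun _ : β => tw (n := n) (k := k) m) ⟶ tw m) := fun i =>
    Sigma.desc fun l => if l = i then 𝟙 _ else 0
  have htot : ∑ i, π i ≫ Sigma.ι (fun _ : β => tw (n := n) (k := k) m) i = 𝟙 _ := by
    refine Sigma.hom_ext _ _ fun l => ?_
    rw [Preadditive.comp_sum, Category.comp_id, Finset.sum_eq_single l]
    · simp [π]
    · intro i _ hi
      simp [π, hi.symm]
    · simp
  choose c hc using fun i => stalk_tw m j hx (stalkLin (π i) x w)
  refine ⟨c, ?_⟩
  conv_lhs => rw [← stalkLin_id _ x w, ← htot, stalkLin_sum]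
  refine Finset.sum_congr rfl fun i _ => ?_
  rw [stalkLin_comp, hc, map_smul]
  rfl

theorem frame_sum_free {β : Type} [Fintype β] (m : ℕ) (c : β → (CohB1.ProjSpace n k).presheaf.stalk x)
    (h : ∑ i, c i • stalkLin (Sigma.ι (fun _ : β => tw (n := n) (k := k) m) i) x (frame j x hx m) = 0)
    (i : β) : c i = 0 := by
  classical
  refine frame_free j x hx m ?_
  have h' := congrArg (stalkLin (Sigma.desc fun l => if l = i then 𝟙 _ else 0 :
    (∐ fun _ : β => tw (n := n) (k := k) m) ⟶ tw m) x) h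
  rw [map_zero, map_sum, Finset.sum_eq_single i] at h'
  · rw [map_smul, ← stalkLin_comp, Sigma.ι_desc, if_pos rfl] at h'
    rwa [stalkLin_id] at h'
  · intro l _ hl
    rw [map_smul, ← stalkLin_comp, Sigma.ι_desc, if_neg hl, stalkLin_zero, smul_zero]
  · simp

end Germ

theorem tw_eq : (-((3 • 1 : ℕ) : ℤ)) + 1 = -((2 • 1 : ℕ) : ℤ) := by norm_num

/-- Multiplication by a linear form `O(-3) ⟶ O(-2)`. -/
def lmul (M : LefPen.Form n k 1) : tw (n := n) (k := k) 3 ⟶ tw 2 :=
  ProjTwist.mulHom (𝒜 := CohB1.polyGrading n k) M.2 tw_eq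

theorem lmul_frame (M : LefPen.Form n k 1) (j : Fin (n + 1)) (x : CohB1.ProjSpace n k) (hx : x ∈ D k n j) :
    stalkLin (lmul M) x (frame j x hx 3) = germF M j x hx • frame j x hx 2 := by
  rw [frame, frame, germF, stalkLin_germ]
  refine Eq.trans (congrArg _ ?_) (germM_smul (tw 2) (D k n j) x hx (LefPen.dehom M j) (den j 2))
  refine ProjTwist.sectN_ext fun y => ?_
  refine Eq.trans ?_ (ProjTwist.smul_coe _ _ y).symm
  refine (congrArg (fun t : Twist.sectN (𝒜 := CohB1.polyGrading n k) (-((2 • 1 : ℕ) : ℤ)) (op (D k n j)) => (t.1 y).1) (ProjTwist.mulHom_app_coe M.2 tw_eq (D k n j) (den j 3))).trans ?_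
  refine (ProjTwist.mulSec_coe _ _ _ y).trans ?_
  change (Localization.mk (1 : MvPolynomial (Fin (n + 1)) k) ⟨X j ^ 3, D_le_pow j 3 y.2⟩ :
      Twist.Loc (CohB1.polyGrading n k) y.1) * Localization.mk M.1 ⟨1, _⟩ =
    Props.ProjFrame.valAt (LefPen.dehom M j) y *
      Localization.mk (1 : MvPolynomial (Fin (n + 1)) k) ⟨X j ^ 2, D_le_pow j 2 y.2⟩
  refine Eq.trans ?_ (congrArg (· * _) (LefHyp.valAt_dehom M j y).symm)
  rw [Localization.mk_mul, Localization.mk_mul, Localization.mk_eq_mk_iff,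
    Localization.r_iff_exists]
  exact ⟨1, by simp only [OneMemClass.coe_one, one_mul, Submonoid.coe_mul]; ring⟩

/-- The hypotheses on the three linear forms and the residual quadric. -/
structure Good (l₁ l₂ m a b : LefPen.Form n k 1) : Prop where
  prime₁ : (Ideal.span (Set.range fun _ : Fin 1 => l₁.1)).IsPrime
  prime₁₂ : (Ideal.span (Set.range fun i : Fin 2 => (![l₁, l₂] i).1)).IsPrime
  primeM : (Ideal.span (Set.range fun _ : Fin 1 => m.1)).IsPrime
  ne₁ : l₁.1 ≠ 0
  ne₂ : l₂.1 ≠ 0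
  neM : m.1 ≠ 0
  notMem₂₁ : l₂.1 ∉ Ideal.span (Set.range fun _ : Fin 1 => l₁.1)
  notMem₂M : l₂.1 ∉ Ideal.span (Set.range fun _ : Fin 1 => m.1)
  notMemM : m.1 ∉ Ideal.span (Set.range fun i : Fin 2 => (![l₁, l₂] i).1)
  notMemQ : a.1 * l₁.1 + b.1 * l₂.1 ∉ Ideal.span (Set.range fun _ : Fin 1 => m.1)

variable (l₁ l₂ m a b : LefPen.Form n k 1)

/-- The residual quadric. -/
def resQ : LefPen.Form n k 2 := (mulF a l₁ : LefPen.Form n k (1 + 1)) + (mulF b l₂ : LefPen.Form n k (1 + 1))

/-- The three quadrics. -/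
def quad : Fin 3 → LefPen.Form n k 2 := ![(mulF l₁ m : LefPen.Form n k (1 + 1)), (mulF l₂ m : LefPen.Form n k (1 + 1)), resQ l₁ l₂ a b]

/-- The ideal cut out by the three quadrics. -/
abbrev quadIdeal : (CohB1.ProjSpace n k).IdealSheafData :=
  LefPen.ciIdeal (a := fun _ : Fin 3 => 2) (quad l₁ l₂ m a b)

/-- The matrix of syzygies. -/
def syz : Fin 2 → Fin 3 → LefPen.Form n k 1 := ![![l₂, -l₁, 0], ![a, b, -m]]

theorem mem_span_one {R : Type u} [CommRing R] {x c : R} (h : c ∈ Ideal.span (Set.range fun _ : Fin 1 => x)) :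
    ∃ d, c = d * x := by
  rw [Set.range_const] at h
  exact (Ideal.mem_span_singleton'.1 h).imp fun _ hd => hd.symm

theorem span_one_mem {R : Type u} [CommRing R] (x d : R) : d * x ∈ Ideal.span (Set.range fun _ : Fin 1 => x) :=
  Ideal.mul_mem_left _ _ (Ideal.subset_span (Set.mem_range_self (0 : Fin 1)))

section At

variable (j : Fin (n + 1)) (p : CohB1.ProjSpace n k) (hp : p ∈ D k n j)

theorem germ_resQ : germF (resQ l₁ l₂ a b) j p hp =
    germF a j p hp * germF l₁ j p hp + germF b j p hp * germF l₂ j p hp := by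
  rw [resQ, germF_add, germF_mulF, germF_mulF]

theorem germF_zero {d : ℕ} : germF (0 : LefPen.Form n k d) j p hp = 0 := by
  have := germF_add j p hp (0 : LefPen.Form n k d) 0
  rwa [add_zero, left_eq_add] at this

variable {l₁ l₂ m a b}

theorem exact_alg (H : Good l₁ l₂ m a b) {A B C : (CohB1.ProjSpace n k).presheaf.stalk p}
    (h : A * (germF l₁ j p hp * germF m j p hp) + B * (germF l₂ j p hp * germF m j p hp) +
      C * germF (resQ l₁ l₂ a b) j p hp = 0) :
    ∃ u v, A = u * germF l₂ j p hp + v * germF a j p hp ∧ B = -(u * germF l₁ j p hp) + v * germF b j p hp ∧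
      C = -(v * germF m j p hp) := by
  haveI := isDomain_stalk p
  rw [germ_resQ] at h
  set x := germF l₁ j p hp
  set y := germF l₂ j p hp
  set z := germF m j p hp
  set α := germF a j p hp
  set β := germF b j p hp
  obtain ⟨w, hw⟩ := mem_span_one (mem_span_of_mul_mem (fun _ : Fin 1 => l₁) H.prime₁ H.notMem₂₁ j p hp
    (c := B * z + C * β) (by
      rw [show (B * z + C * β) * y = (-(A * z + C * α)) * x by linear_combination h]
      exact span_one_mem _ _))
  have hA : A * z + C * α = -w * y := by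
    refine mul_right_cancel₀ (germF_ne_zero j p hp l₁ H.ne₁) ?_
    linear_combination h - y * hw
  obtain ⟨s, hs⟩ := mem_span_one (mem_span_of_mul_mem (fun _ : Fin 1 => m) H.primeM
    (G := resQ l₁ l₂ a b) H.notMemQ j p hp (c := C) (by
      rw [germ_resQ, show C * (α * x + β * y) = (-(A * x + B * y)) * z by linear_combination h]
      exact span_one_mem _ _))
  obtain ⟨v, hv⟩ := mem_span_one (mem_span_of_mul_mem (fun _ : Fin 1 => m) H.primeM H.notMem₂M j p hp
    (c := -w) (by
      rw [show -w * y = (A + s * α) * z by linear_combination (α : _) * hs - hA]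
      exact span_one_mem _ _))
  refine ⟨v, -s, ?_, ?_, by rw [hs]; ring⟩
  · refine mul_right_cancel₀ (germF_ne_zero j p hp m H.neM) ?_
    linear_combination hA - α * hs + y * hv
  · refine mul_right_cancel₀ (germF_ne_zero j p hp m H.neM) ?_
    linear_combination hw - β * hs - x * hv

theorem inter_alg (H : Good l₁ l₂ m a b) (c : LefPen.Form n k 1) (q : LefPen.Form n k 2)
    (hq : q.1 = a.1 * l₁.1 + b.1 * l₂.1 + c.1 * m.1) {f : (CohB1.ProjSpace n k).presheaf.stalk p}
    (h₁ : f ∈ Ideal.span {germF l₁ j p hp, germF l₂ j p hp})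
    (h₂ : f ∈ Ideal.span {germF m j p hp, germF q j p hp}) :
    f ∈ Ideal.span (Set.range fun i => germF (quad l₁ l₂ m a b i) j p hp) := by
  obtain ⟨A, B, rfl⟩ := Ideal.mem_span_pair.1 h₂
  obtain ⟨A', B', hAB⟩ := Ideal.mem_span_pair.1 h₁
  have hq' : q = resQ l₁ l₂ a b + (mulF c m : LefPen.Form n k (1 + 1)) := Subtype.ext hq
  rw [hq', germF_add, germF_mulF, germ_resQ] at hAB ⊢
  set x := germF l₁ j p hp
  set y := germF l₂ j p hp
  set z := germF m j p hp
  set α := germF a j p hp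
  set β := germF b j p hp
  set γ := germF c j p hp
  have hset : (Set.range fun i => germF (![l₁, l₂] i) j p hp) = {x, y} := by
    ext e
    simp [Fin.exists_fin_two, eq_comm, x, y]
  have hE := mem_span_of_mul_mem (a := fun _ : Fin 2 => 1) (fun i => ![l₁, l₂] i) H.prime₁₂ H.notMemM j p hp
    (c := A + B * γ) (by
      rw [hset, Ideal.mem_span_pair]
      exact ⟨A' - B * α, B' - B * β, by linear_combination hAB⟩)
  rw [hset, Ideal.mem_span_pair] at hE
  obtain ⟨U, V, hUV⟩ := hE
  rw [Ideal.mem_span_range_iff_exists_fun]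
  refine ⟨![U, V, B], ?_⟩
  simp only [Fin.sum_univ_three, quad, Matrix.cons_val_zero, Matrix.cons_val_one, Matrix.cons_val,
    germF_mulF, germ_resQ]
  linear_combination z * hUV

end At

/-- `O(-3)² ⟶ O(-2)³`. -/
def syzHom : (∐ fun _ : Fin 2 => tw (n := n) (k := k) 3) ⟶ ∐ fun _ : Fin 3 => tw (n := n) (k := k) 2 :=
  Sigma.desc fun c => ∑ i, lmul (syz l₁ l₂ m a b c i) ≫ Sigma.ι (fun _ : Fin 3 => tw (n := n) (k := k) 2) i

/-- `O(-2)³ ⟶ I`. -/
def genHom : (∐ fun _ : Fin 3 => tw (n := n) (k := k) 2) ⟶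
    ClSub.idealMod (Scheme.Hom.ker (quadIdeal l₁ l₂ m a b).subschemeι) :=
  Sigma.desc fun i => hom (φ := fun _ : Fin 3 => 2) (quad l₁ l₂ m a b) i

section At2

variable (j : Fin (n + 1)) (p : CohB1.ProjSpace n k) (hp : p ∈ D k n j)

theorem syzHom_gen (e : Fin 2) :
    stalkLin (syzHom l₁ l₂ m a b) p (stalkLin (Sigma.ι (fun _ : Fin 2 => tw (n := n) (k := k) 3) e) p (frame j p hp 3)) =
      ∑ i, germF (syz l₁ l₂ m a b e i) j p hp •
        stalkLin (Sigma.ι (fun _ : Fin 3 => tw (n := n) (k := k) 2) i) p (frame j p hp 2) := by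
  rw [← stalkLin_comp, syzHom, Sigma.ι_desc, stalkLin_sum]
  exact Finset.sum_congr rfl fun i _ => by rw [stalkLin_comp, lmul_frame, map_smul]

theorem genHom_gen (i : Fin 3) :
    idealStalk _ p (stalkLin (genHom l₁ l₂ m a b) p
      (stalkLin (Sigma.ι (fun _ : Fin 3 => tw (n := n) (k := k) 2) i) p (frame j p hp 2))) =
      germF (quad l₁ l₂ m a b i) j p hp := by
  rw [← stalkLin_comp, genHom, Sigma.ι_desc, frame, stalkLin_germ, hom_den, idealStalk_germ, idealSect_sig]
  rfl

end At2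

theorem shortExact_quad (H : Good l₁ l₂ m a b) :
    ∃ h : syzHom l₁ l₂ m a b ≫ genHom l₁ l₂ m a b = 0,
      (ShortComplex.mk (syzHom l₁ l₂ m a b) (genHom l₁ l₂ m a b) h).ShortExact := by
  have hD : ∀ p : CohB1.ProjSpace n k, ∃ j, p ∈ D k n j := fun p =>
    Opens.mem_iSup.1 ((ProjTwist.iSup_stdOpen n k).ge (Opens.mem_top p))
  have hcomp : syzHom l₁ l₂ m a b ≫ genHom l₁ l₂ m a b = 0 := hom_ext_stalk fun p => LinearMap.ext fun w => by
    obtain ⟨j, hp⟩ := hD p
    obtain ⟨c, rfl⟩ := exists_frame_sum j p hp 3 w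
    rw [stalkLin_zero, stalkLin_comp, map_sum, map_sum]
    refine Finset.sum_eq_zero fun e _ => idealStalk_injective _ p ?_
    rw [map_smul, map_smul, syzHom_gen, map_zero, map_smul]
    simp only [map_sum, map_smul, genHom_gen, smul_eq_mul]
    fin_cases e <;>
      simp [syz, quad, Fin.sum_univ_three, germF_mulF, germ_resQ, germF_neg, germF_zero] <;> ring
  refine ⟨hcomp, ?_⟩
  have hmono : Mono (syzHom l₁ l₂ m a b) := mono_of_stalk fun p => by
    obtain ⟨j, hp⟩ := hD p
    haveI := isDomain_stalk p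
    refine (injective_iff_map_eq_zero _).2 fun w hw => ?_
    obtain ⟨c, rfl⟩ := exists_frame_sum j p hp 3 w
    simp only [map_sum, map_smul, syzHom_gen, Finset.smul_sum, smul_smul] at hw
    rw [Finset.sum_comm] at hw
    simp only [← Finset.sum_smul] at hw
    have h := frame_sum_free j p hp 2 _ hw
    have h2 := h 2
    have h0 := h 0
    simp [syz, Fin.sum_univ_two, germF_neg, germF_zero, germF_ne_zero j p hp m H.neM] at h2
    simp [syz, Fin.sum_univ_two, h2, germF_ne_zero j p hp l₂ H.ne₂] at h0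
    refine Finset.sum_eq_zero fun e _ => ?_
    fin_cases e <;> simp [h0, h2]
  have hepi : Epi (genHom l₁ l₂ m a b) := epi_of_stalk fun p w => by
    obtain ⟨j, hp⟩ := hD p
    obtain ⟨c, hc⟩ := Ideal.mem_span_range_iff_exists_fun.1
      (idealStalk_mem_span (quad l₁ l₂ m a b) j p hp w)
    refine ⟨∑ i, c i • stalkLin (Sigma.ι (fun _ : Fin 3 => tw (n := n) (k := k) 2) i) p (frame j p hp 2),
      idealStalk_injective _ p ?_⟩
    simp only [map_sum, map_smul, genHom_gen, smul_eq_mul]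
    exact hc
  refine @ShortComplex.ShortExact.mk' _ _ _ _ (exact_of_stalk _ fun p w hw => ?_) hmono hepi
  obtain ⟨j, hp⟩ := hD p
  obtain ⟨c, rfl⟩ := exists_frame_sum j p hp 2 w
  have hw' : stalkLin (genHom l₁ l₂ m a b) p (∑ i, c i •
      stalkLin (Sigma.ι (fun _ : Fin 3 => tw (n := n) (k := k) 2) i) p (frame j p hp 2)) = 0 := LinearMap.mem_ker.1 hw
  have h := congrArg (idealStalk _ p) hw'
  simp only [map_sum, map_smul, genHom_gen, smul_eq_mul, map_zero] at h
  simp only [Fin.sum_univ_three, quad, Matrix.cons_val_zero, Matrix.cons_val_one, Matrix.cons_val, germF_mulF] at h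
  obtain ⟨u, v, hA, hB, hC⟩ := exact_alg j p hp H h
  suffices key : stalkLin (syzHom l₁ l₂ m a b) p
      (∑ e, ![u, v] e • stalkLin (Sigma.ι (fun _ : Fin 2 => tw (n := n) (k := k) 3) e) p (frame j p hp 3)) =
      ∑ i, c i • stalkLin (Sigma.ι (fun _ : Fin 3 => tw (n := n) (k := k) 2) i) p (frame j p hp 2) from ⟨_, key⟩
  rw [map_sum]
  simp only [map_sum, map_smul, syzHom_gen, Fin.sum_univ_three, Fin.sum_univ_two]
  simp only [syz, Matrix.cons_val_zero, Matrix.cons_val_one, Matrix.cons_val, germF_neg, germF_zero, hA, hB, hC]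
  module

theorem subsingleton_quad (hn : 1 ≤ n) (H : Good l₁ l₂ m a b) (i : ℕ) (hi : 1 ≤ i) :
    Subsingleton (Coh.HH (CohB1.ProjSpace n k)
      (CohB1.tensorMod (ClSub.idealMod (quadIdeal l₁ l₂ m a b)) (Twist.twistProjSpace n k 2)) i) := by
  obtain ⟨h0, hS⟩ := shortExact_quad l₁ l₂ m a b H
  rw [← Scheme.IdealSheafData.ker_subschemeι (quadIdeal l₁ l₂ m a b)]
  haveI : Subsingleton (Coh.HH (CohB1.ProjSpace n k)
      ((ShortComplex.mk _ _ h0).map (ProjTwist.Pn.twFun n k 2)).X₂ i) :=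
    ProjTwist.Pn.subsingleton_sum_twist (n := n) (k := k) 3 2 2 i hi (by omega)
  haveI : Subsingleton (Coh.HH (CohB1.ProjSpace n k)
      ((ShortComplex.mk _ _ h0).map (ProjTwist.Pn.twFun n k 2)).X₁ (i + 1)) :=
    ProjTwist.Pn.subsingleton_sum_twist (n := n) (k := k) 2 3 2 (i + 1) (by omega) (by omega)
  exact CohLin.subsingleton_X₃ (ProjTwist.Pn.shortExact_tw hS 2)

end Groth.Agent.FanoCI

end
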