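import Groth.Agent.FanoCI.TwoQuad

/-! The intersection of the ideals of the plane and of the quadric surface. -/

set_option autoImplicit false
set_option linter.style.haveILetI false

universe u

open CategoryTheory CategoryTheory.Limits AlgebraicGeometry TopologicalSpace Opposite MvPolynomial

noncomputable section

namespace Groth.Agent.FanoCI

open Groth.Agent.SepTang48 (D isAffineOpen_D)

variable {k : Type u} [Field k] {n : ℕ}

theorem prime_of_linear {s : ℕ} (l : Fin s → LefPen.Form n k 1) :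
    (Ideal.span (Set.range fun i => (l i).1)).IsPrime ∧
      ∀ p : LefPen.Form n k 1, p.1 ∈ Ideal.span (Set.range fun i => (l i).1) → p ∈ Submodule.span k (Set.range l) := by
  obtain ⟨r, hr, hr1⟩ := isPrime_span_linear (k := k) (fun i => (l i).1) fun i => (l i).2
  refine ⟨hr ▸ RingHom.ker_isPrime _, fun p hp => ?_⟩
  rw [← hr, RingHom.mem_ker] at hp
  have h := hr1 p.1 p.2 hp
  rw [show (Set.range fun i => (l i).1) = (CohB1.polyGrading n k 1).subtype '' Set.range l from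
    (Set.range_comp _ _), Submodule.span_image] at h
  obtain ⟨p', hp', he⟩ := h
  exact (Subtype.ext he : p' = p) ▸ hp'

theorem dehom_mulF {d e : ℕ} (F : LefPen.Form n k d) (G : LefPen.Form n k e) (j : Fin (n + 1)) :
    LefPen.dehom (mulF F G) j = LefPen.dehom F j * LefPen.dehom G j := by
  refine Props.ProjFrame.valAt_ext fun y => (LefHyp.valAt_dehom _ j y).trans ?_
  refine Eq.trans ?_ ((Props.ProjFrame.valAt_mul _ _ _).trans
    (congrArg₂ (· * ·) (LefHyp.valAt_dehom F j y) (LefHyp.valAt_dehom G j y))).symm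
  rw [Localization.mk_mul, Localization.mk_eq_mk_iff, Localization.r_iff_exists]
  exact ⟨1, by simp only [OneMemClass.coe_one, one_mul, Submonoid.coe_mul, mulF, pow_add]⟩

theorem good_of {l₁ l₂ m a b c : LefPen.Form 4 k 1} (hlin : LinearIndependent k ![l₁, l₂, m])
    {q : LefPen.Form 4 k 2} (hq : q.1 = a.1 * l₁.1 + b.1 * l₂.1 + c.1 * m.1)
    (hdim : topologicalKrullDim ↥(LefPen.hypIdeal m ⊔ LefPen.hypIdeal q).subscheme = 2) :
    Good l₁ l₂ m a b := by
  have hne : ∀ i : Fin 3, (![l₁, l₂, m] i).1 ≠ 0 := fun i h => hlin.ne_zero i (Subtype.ext h)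
  have hnot : ∀ (i : Fin 3) (s : Set (Fin 3)), i ∉ s →
      ![l₁, l₂, m] i ∉ Submodule.span k (![l₁, l₂, m] '' s) := fun i s hi => hlin.notMem_span_image hi
  have hp₁ := prime_of_linear (fun _ : Fin 1 => l₁)
  have hpm := prime_of_linear (fun _ : Fin 1 => m)
  have hp₁₂ := prime_of_linear ![l₁, l₂]
  refine ⟨hp₁.1, hp₁₂.1, hpm.1, hne 0, hne 1, hne 2, fun h => ?_, fun h => ?_, fun h => ?_, fun h => ?_⟩
  · refine hnot 1 {0} (by simp) (Submodule.span_mono ?_ (hp₁.2 l₂ h))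
    rintro _ ⟨_, rfl⟩; exact ⟨0, rfl, rfl⟩
  · refine hnot 1 {2} (by simp) (Submodule.span_mono ?_ (hpm.2 l₂ h))
    rintro _ ⟨_, rfl⟩; exact ⟨2, rfl, rfl⟩
  · refine hnot 2 {0, 1} (by simp) (Submodule.span_mono ?_ (hp₁₂.2 m h))
    rintro _ ⟨i, rfl⟩
    fin_cases i
    · exact ⟨0, by simp, rfl⟩
    · exact ⟨1, by simp, rfl⟩
  -- otherwise the quadric surface would be the hyperplane `m = 0`
  have hqm : q.1 ∈ Ideal.span (Set.range fun _ : Fin 1 => m.1) := by
    rw [hq]
    exact add_mem h (span_one_mem _ _)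
  obtain ⟨e, he⟩ := mem_span_one hqm
  have he1 : ∃ E : LefPen.Form 4 k 1, q = (mulF E m : LefPen.Form 4 k (1 + 1)) := by
    have h2 := DirectSum.coe_decompose_mul_of_left_mem_of_le (CohB1.polyGrading 4 k) (b := e) (n := 2) m.2 (by norm_num)
    refine ⟨⟨_, (DirectSum.decompose (CohB1.polyGrading 4 k) e (2 - 1)).2⟩, Subtype.ext ?_⟩
    calc q.1 = (DirectSum.decompose (CohB1.polyGrading 4 k) q.1 2 : MvPolynomial (Fin (4 + 1)) k) :=
          (DirectSum.decompose_of_mem_same (CohB1.polyGrading 4 k) q.2).symm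
      _ = (DirectSum.decompose (CohB1.polyGrading 4 k) (m.1 * e) 2 : MvPolynomial (Fin (4 + 1)) k) := by
          rw [he, mul_comm]
      _ = m.1 * _ := h2
      _ = _ := mul_comm _ _
  obtain ⟨E, rfl⟩ := he1
  let g : Fin 1 → LefPen.Form 4 k 1 := fun _ => m
  have hI : LefPen.hypIdeal m ⊔ LefPen.hypIdeal (mulF E m : LefPen.Form 4 k (1 + 1)) =
      LefPen.ciIdeal (a := fun _ : Fin 1 => 1) g := by
    rw [LefPen.ciIdeal, iSup_unique]
    refine sup_eq_left.2 (Scheme.IdealSheafData.le_of_iSup_eq_top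
      (fun j => (⟨D k 4 j, isAffineOpen_D k 4 j⟩ : (CohB1.ProjSpace 4 k).affineOpens))
      (ProjTwist.iSup_stdOpen 4 k) fun j => ?_)
    rw [LefHyp.hypIdeal_ideal_of_le _ j _ le_rfl, LefHyp.hypIdeal_ideal_of_le _ j _ le_rfl,
      Ideal.span_singleton_le_iff_mem, Ideal.mem_span_singleton']
    refine ⟨QCoh.rres le_rfl (LefPen.dehom E j), ?_⟩
    rw [← map_mul]
    exact congrArg _ (dehom_mulF E m j).symm
  rw [hI] at hdim
  let Z := (LefPen.ciIdeal (a := fun _ : Fin 1 => 1) g).subscheme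
  haveI : LocallyOfFiniteType (CohB1.ProjSpace.toSpec 4 k) := ProjTwist.Pn.locallyOfFiniteType_toSpec 4 k
  haveI : JacobsonSpace Z := LocallyOfFiniteType.jacobsonSpace
    ((LefPen.ciIdeal (a := fun _ : Fin 1 => 1) g).subschemeι ≫ CohB1.ProjSpace.toSpec 4 k)
  haveI : Nonempty Z := by
    by_contra h0
    rw [not_nonempty_iff] at h0
    haveI : IsEmpty (IrreducibleCloseds Z) := ⟨fun s => isEmptyElim s.isIrreducible.1.some⟩
    rw [topologicalKrullDim, Order.krullDim_eq_bot] at hdim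
    exact absurd hdim (by simp)
  obtain ⟨z, -, hz⟩ := nonempty_inter_closedPoints (Z := (Set.univ : Set Z)) Set.univ_nonempty isOpen_univ.isLocallyClosed
  let ι := (LefPen.ciIdeal (a := fun _ : Fin 1 => 1) g).subschemeι
  obtain ⟨j, hj⟩ := Opens.mem_iSup.1 ((ProjTwist.iSup_stdOpen 4 k).ge (Opens.mem_top (ι z)))
  have hker := ker_stalkMap (φ := fun _ : Fin 1 => 1) g z hj
  haveI := DualAbs.isRegularLocalRing_stalk (N := 4) (k := k) (ι z)
  have hR : ringKrullDim ((CohB1.ProjSpace 4 k).presheaf.stalk (ι z)) = 4 :=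
    DualAbs.ringKrullDim_stalk_closed (by simpa using (Scheme.Hom.isClosedEmbedding ι).isClosedMap _ hz)
  have h1 := ringKrullDim_le_ringKrullDim_quotient_add_spanFinrank
    (RingHom.ker (Scheme.Hom.stalkMap ι z).hom)
    ((IsLocalRing.le_maximalIdeal (RingHom.ker_ne_top _)).trans (IsLocalRing.ringJacobson_eq_maximalIdeal _).ge)
  rw [hR, ringKrullDim_eq_of_ringEquiv
    (RingHom.quotientKerEquivOfSurjective (Scheme.Hom.stalkMap_surjective ι z))] at h1
  have h2 : Submodule.spanFinrank (RingHom.ker (Scheme.Hom.stalkMap ι z).hom) ≤ 1 := by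
    rw [hker, Set.range_unique]
    exact (Submodule.spanFinrank_span_le_ncard_of_finite (Set.finite_singleton _)).trans (by simp)
  have h3 := h1.trans (add_le_add ((Props.NormalCM.ringKrullDim_stalk_le _ z).trans hdim.le) (Nat.cast_le.2 h2))
  exact absurd h3 (by norm_num)

theorem quadIdeal_eq {l₁ l₂ m a b c : LefPen.Form n k 1} (H : Good l₁ l₂ m a b)
    {q : LefPen.Form n k 2} (hq : q.1 = a.1 * l₁.1 + b.1 * l₂.1 + c.1 * m.1) :
    (LefPen.hypIdeal l₁ ⊔ LefPen.hypIdeal l₂) ⊓ (LefPen.hypIdeal m ⊔ LefPen.hypIdeal q) =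
      quadIdeal l₁ l₂ m a b := by
  refine Scheme.IdealSheafData.ext_of_iSup_eq_top
    (fun j => (⟨D k n j, isAffineOpen_D k n j⟩ : (CohB1.ProjSpace n k).affineOpens))
    (ProjTwist.iSup_stdOpen n k) fun j => ?_
  have hq' : q = resQ l₁ l₂ a b + (mulF c m : LefPen.Form n k (1 + 1)) := Subtype.ext hq
  have hres : ∀ {d : ℕ} (F : LefPen.Form n k d), QCoh.rres (le_refl (D k n j)) (LefPen.dehom F j) = LefPen.dehom F j :=
    fun F => congr($(CategoryTheory.Functor.map_id (CohB1.ProjSpace n k).presheaf _) (LefPen.dehom F j))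
  have hJ : (quadIdeal l₁ l₂ m a b).ideal ⟨D k n j, isAffineOpen_D k n j⟩ =
      Ideal.span (Set.range fun i => LefPen.dehom (quad l₁ l₂ m a b i) j) := by
    have := ker_ι_ideal (φ := fun _ : Fin 3 => 2) (quad l₁ l₂ m a b) j ⟨D k n j, isAffineOpen_D k n j⟩ le_rfl
    rw [Scheme.IdealSheafData.ker_subschemeι] at this
    rw [this]
    simp only [hres]
  rw [hJ]
  have hhyp : ∀ {d : ℕ} (F : LefPen.Form n k d),
      (LefPen.hypIdeal F).ideal ⟨D k n j, isAffineOpen_D k n j⟩ = Ideal.span {LefPen.dehom F j} := fun F =>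
    (LefHyp.hypIdeal_ideal_of_le F j ⟨D k n j, isAffineOpen_D k n j⟩ le_rfl).trans (by rw [hres])
  simp only [Scheme.IdealSheafData.ideal_inf, Scheme.IdealSheafData.ideal_sup, Pi.inf_apply, Pi.sup_apply]
  rw [hhyp l₁, hhyp l₂, hhyp m, hhyp q, ← Ideal.span_insert, ← Ideal.span_insert]
  have hmul : ∀ (F G : LefPen.Form n k 1), LefPen.dehom (mulF F G : LefPen.Form n k (1 + 1)) j =
      LefPen.dehom F j * LefPen.dehom G j := fun F G => dehom_mulF F G j
  have hadd : LefPen.dehom (resQ l₁ l₂ a b) j =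
      LefPen.dehom a j * LefPen.dehom l₁ j + LefPen.dehom b j * LefPen.dehom l₂ j := by
    rw [resQ, LefHyp.dehom_add, hmul, hmul]
  apply le_antisymm
  · intro f hf
    let U : (CohB1.ProjSpace n k).Opens := D k n j
    let C : Ideal Γ(CohB1.ProjSpace n k, U) :=
      (Ideal.span (Set.range fun i => LefPen.dehom (quad l₁ l₂ m a b i) j)).colon {f}
    by_contra hfJ
    have hC : C ≠ ⊤ := fun h => hfJ (by
      have h1 : (1 : Γ(CohB1.ProjSpace n k, U)) ∈ C := h ▸ Submodule.mem_top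
      simpa [C, Submodule.mem_colon_singleton] using h1)
    obtain ⟨M, hM, hCM⟩ := Ideal.exists_le_maximal C hC
    let hU : IsAffineOpen U := isAffineOpen_D k n j
    obtain ⟨⟨p, hp⟩, hpM⟩ : ∃ p : U, hU.primeIdealOf p = ⟨M, hM.isPrime⟩ :=
      ⟨hU.isoSpec.inv ⟨M, hM.isPrime⟩, by simp only [IsAffineOpen.primeIdealOf]; exact congr($(hU.isoSpec.inv_hom_id) ⟨M, hM.isPrime⟩)⟩
    letI := (CohB1.ProjSpace n k).presheaf.algebra_section_stalk (⟨p, hp⟩ : U)
    haveI := hU.isLocalization_stalk ⟨p, hp⟩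
    have hmem := inter_alg j p hp H c q hq
      (f := (CohB1.ProjSpace n k).presheaf.germ U p hp f) ?_ ?_
    rotate_left
    · have := Ideal.mem_map_of_mem ((CohB1.ProjSpace n k).presheaf.germ U p hp).hom hf.1
      rwa [Ideal.map_span, Set.image_pair] at this
    · have := Ideal.mem_map_of_mem ((CohB1.ProjSpace n k).presheaf.germ U p hp).hom hf.2
      rwa [Ideal.map_span, Set.image_pair] at this
    have hmem' : algebraMap Γ(CohB1.ProjSpace n k, U) ((CohB1.ProjSpace n k).presheaf.stalk p) f ∈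
        (Ideal.span (Set.range fun i => LefPen.dehom (quad l₁ l₂ m a b i) j)).map
          (algebraMap Γ(CohB1.ProjSpace n k, U) ((CohB1.ProjSpace n k).presheaf.stalk p)) := by
      rw [Ideal.map_span, ← Set.range_comp]
      exact hmem
    obtain ⟨s, hs, hsf⟩ := (IsLocalization.algebraMap_mem_map_algebraMap_iff
      (hU.primeIdealOf ⟨p, hp⟩).asIdeal.primeCompl _ _ _).1 hmem'
    have hsC : s ∈ C := by simpa [C, Submodule.mem_colon_singleton] using hsf
    exact hs (hpM ▸ hCM hsC)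
  · rw [Ideal.span_le]
    rintro _ ⟨i, rfl⟩
    rw [hq', LefHyp.dehom_add, hmul, hadd]
    fin_cases i
    · refine ⟨Ideal.mem_span_pair.2 ⟨LefPen.dehom m j, 0, ?_⟩, Ideal.mem_span_pair.2 ⟨LefPen.dehom l₁ j, 0, ?_⟩⟩ <;>
        simp [quad, hmul] <;> ring
    · refine ⟨Ideal.mem_span_pair.2 ⟨0, LefPen.dehom m j, ?_⟩, Ideal.mem_span_pair.2 ⟨LefPen.dehom l₂ j, 0, ?_⟩⟩ <;>
        simp [quad, hmul] <;> ring
    · refine ⟨Ideal.mem_span_pair.2 ⟨LefPen.dehom a j, LefPen.dehom b j, ?_⟩,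
        Ideal.mem_span_pair.2 ⟨-LefPen.dehom c j, 1, ?_⟩⟩ <;> simp [quad, hadd]

end Groth.Agent.FanoCI

end
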